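import Cfsg.Agent.H433.SubEven

/-!
# Commuting involutions of `SU_3(2)` are equal (helper198, for S4114)
-/

set_option autoImplicit false

namespace Cfsg.Agent.H198.ElPsu

open Matrix Cfsg Cfsg.Agent.LieClassical.HermBasic

/-- **Commuting involutions of `SU_3(2)` are equal.** -/
theorem su_three_two {K : Type*} [Field K] [Fintype K] (hK : Fintype.card K = 2 ^ 2) {h k : SU 3 K 2}
    (hh : h * h = 1) (hk : k * k = 1) (hh1 : h ≠ 1) (hk1 : k ≠ 1) (hc : h * k = k * h) : h = k := by
  have h2 : (2 : K) = 0 := by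
    obtain ⟨p, j, hp, hch, hq, hj⟩ := exists_prime_pow hK
    have h1 : p = 2 := (Nat.prime_dvd_prime_iff_eq hp Nat.prime_two).1 (by rw [hq]; exact dvd_pow_self p hj.ne')
    subst h1
    have := CharP.cast_eq_zero K 2
    exact_mod_cast this
  obtain ⟨r, hr0, hrr, hT, hT1⟩ := H433.exists_centre hK h2 h hh1 hh
  obtain ⟨r', hr0', hrr', hT', hT1'⟩ := H433.exists_centre hK h2 k hk1 hk
  obtain ⟨c, hc0, hcr⟩ := H433.centre_unique hK h2 hr0 hr0' hrr hrr' hT hT1 hT' hk hc
  have key : ∀ (T : SU 3 K 2) (s : Fin 3 → K), s ≠ 0 → hermForm 3 K 2 s s = 0 →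
      (∀ x, Phan.mat T *ᵥ x = x ↔ hermForm 3 K 2 x s = 0) → (∀ x, ∃ c : K, Phan.mat T *ᵥ x = x + c • s) →
      ∀ x, Phan.mat T *ᵥ x = x + hermForm 3 K 2 x s • s := by
    intro T s hs hss h1 h3 x
    by_cases hx : hermForm 3 K 2 x s = 0
    · rw [hx, zero_smul, add_zero]
      exact (h1 x).2 hx
    · obtain ⟨c, hc⟩ := h3 x
      have hc0 : c ≠ 0 := by
        rintro rfl
        rw [zero_smul, add_zero] at hc
        exact hx ((h1 x).1 hc)
      have h5 := Phan.mat_isom T x x
      rw [hc, herm_add_left, herm_add_right hK, herm_add_right hK, herm_smul_right, herm_smul_left, herm_smul_left,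
        herm_smul_right, hss, herm_swap hK x s] at h5
      have h6 : c * hermForm 3 K 2 x s * (hermForm 3 K 2 x s + c) = 0 := by linear_combination h5
      have h7 : hermForm 3 K 2 x s + c = 0 := (mul_eq_zero.1 h6).resolve_left (mul_ne_zero hc0 hx)
      have h8 : c = hermForm 3 K 2 x s := by linear_combination h7 - hermForm 3 K 2 x s * h2
      rw [hc, ← h8]
  apply Phan.mat_inj
  apply Matrix.ext_of_mulVec_single
  intro i
  rw [key h r hr0 hrr hT hT1, key k r' hr0' hrr' hT' hT1', hcr, herm_smul_right, smul_smul]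
  have h9 : c ^ 2 * hermForm 3 K 2 (Pi.single i 1) r * c = hermForm 3 K 2 (Pi.single i 1) r := by
    have h10 : c ^ 4 = c := by
      have := FiniteField.pow_card c
      rwa [hK] at this
    have h11 : c ^ 3 = 1 := by
      have : c * (c ^ 3 - 1) = 0 := by linear_combination h10
      exact sub_eq_zero.1 ((mul_eq_zero.1 this).resolve_left hc0)
    linear_combination hermForm 3 K 2 (Pi.single i 1) r * h11
  rw [h9]

end Cfsg.Agent.H198.ElPsu
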